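import Cfsg.Agent.Lib.Helper56.M11Q.Pres

set_option autoImplicit false

namespace Cfsg.Agent.Lib.Helper56.M11R

open Cfsg.Agent.Lib.Helper56.M11Q (Gen gens mem_gens relE rels hinv)
open Cfsg.Agent.Lib.Helper28.TC

/-- the subgroup generators, as expressions -/
def subE : List (WE Gen) := [(WE.mul (WE.mul (WE.of Gen.j) (WE.of Gen.k)) (WE.of Gen.i)), (WE.mul (WE.of Gen.i) (WE.of Gen.j))]

/-- the subgroup generators -/
abbrev subS : Set (FreeGroup Gen) := {s | ∃ e ∈ subE, s = e.evalF}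

end Cfsg.Agent.Lib.Helper56.M11R
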