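import Cfsg.Agent.Lib.Helper28.TCCheck
import Cfsg.Agent.Lib.Helper56.M11R.Pres

set_option autoImplicit false
set_option linter.unusedVariables false

namespace Cfsg.Agent.Lib.Helper56.M11R

open Cfsg.Agent.Lib.Helper56.M11Q (Gen gens mem_gens relE rels hinv)
open Cfsg.Agent.Lib.Helper28.TC

noncomputable section

def hotA_c0 : ℕ := 0x9b0dee97d3a0286c7a82a9e2274f00027c89c69fd47896501848a0cc861204d9a15f989869852963e64e00025cf95423c282562079326490913e40e000000000022cc8e0a3498c2000000022818914000870c0000000000
def hotA : ℕ := hotA_c0
def coldA_c0 : ℕ := 0x40009120001a71041710000768081710001740007910001252031310001940007500000e40006d20000e40006d10000000000000000e40006120000f40005d10001e40005d048206c00059100001400059000014400055200014400055100005680a1b100016a0111720000840004d20000d4000bd20000f4000491000095a0b1b20000e40004500001240003d20000000000000001140003910001040003520000b40003120002040003100000340008520000840002910000840002900000740002520000740002510000000000000000000000000000000000000000640005100000040001900000440001520000440001500000000000000000000000000000240000d20000240000d1000000000000000034000850000000000000000000000000000000000000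
def coldA : ℕ := coldA_c0
def treeT_c0 : ℕ := 0x217d01f627a45e927681d426dc5ba065098915d417015801622544552250414324e0139149c51704588f913dc4e823448c003004b512a00a72258498021c87611c446101948540154844010083310cc4220088801000000
def treeT : ℕ := treeT_c0
def rowT_c0 : ℕ := 0x2964f38d207102040
def rowT : ℕ := rowT_c0

end

end Cfsg.Agent.Lib.Helper56.M11R
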