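import Cfsg.Agent.Lib.Helper28.TCCheck
import Cfsg.Agent.Lib.Helper56.M11R.Pres

set_option autoImplicit false
set_option linter.unusedVariables false

namespace Cfsg.Agent.Lib.Helper56.M11R

open Cfsg.Agent.Lib.Helper56.M11Q (Gen gens mem_gens relE rels hinv)
open Cfsg.Agent.Lib.Helper28.TC

noncomputable section

def hotE0_c0 : ℕ := 0x77c9ca000000000001a5e00000006369f2000016180001517529000085892d571c51d468b40004148f9b62a8fd9579d4e533352a1467ca4b4070b4e232484f2c44c96191ca131518890101460c14283c8080c1c40104002
def hotE0 : ℕ := hotE0_c0
def coldE0_c0 : ℕ := 0xc4046c0007e000000000000000000007600000000000000198000c10000000005e0000000005a002c5c00000000234000520000000004e000000000000001188030f000000e0317000000000000000c8000000000000002a0000000003600008810b171c345c00000000068000000000580000000004800000000000000000000280000000000800000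
def coldE0 : ℕ := coldE0_c0
def tfT0_c0 : ℕ := 0x9a576834201
def tfT0 : ℕ := tfT0_c0

end

end Cfsg.Agent.Lib.Helper56.M11R
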