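import Cfsg.Agent.Lib.Helper28.TCCheck
import Cfsg.Agent.Lib.Helper56.M11R.Pres

set_option autoImplicit false
set_option linter.unusedVariables false

namespace Cfsg.Agent.Lib.Helper56.M11R

open Cfsg.Agent.Lib.Helper56.M11Q (Gen gens mem_gens relE rels hinv)
open Cfsg.Agent.Lib.Helper28.TC

noncomputable section

def hotE1_c0 : ℕ := 0x74800000001b9f0000000000195ca2a981b5a60000565de5700013d6000000073c9b6f454d0d264ad7e93b40e4f59a15664e8cc4c2f2d11e427494a3a68e191e207073054b9424444c91d386cd0c102830b182450304082
def hotE1 : ℕ := hotE1_c0
def coldE1_c0 : ℕ := 0x1f8000000000000007a000000000000000000006e20105c0006a000178000000001680009500000000056000000000000000000000000012800046000000e03130000f80003a000000000000000000002e0000a80000000000000026000000000000000780001a0000000000000000020313000000000000000380000a0000000000000000800223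
def coldE1 : ℕ := coldE1_c0
def tfT1_c0 : ℕ := 0xa8974562301
def tfT1 : ℕ := tfT1_c0

end

end Cfsg.Agent.Lib.Helper56.M11R
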