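import Cfsg.Agent.Lib.Helper28.TCCheck
import Cfsg.Agent.Lib.Helper56.M11R.Pres

set_option autoImplicit false
set_option linter.unusedVariables false

namespace Cfsg.Agent.Lib.Helper56.M11R

open Cfsg.Agent.Lib.Helper56.M11Q (Gen gens mem_gens relE rels hinv)
open Cfsg.Agent.Lib.Helper28.TC

noncomputable section

def hotE2_c0 : ℕ := 0x7698000707c0006b780006770000a1a97995c6800075c9eb251580004d540004951bf06ab800066b0f505ba17693738d4d50913224880a912728ad33c6c8083660d171a305c626484851f3c384162c4490d1c1810408143
def hotE2 : ℕ := hotE2_c0
def coldE2_c0 : ℕ := 0x258000000001e8000000001d8000000001b800000a4445c00062000198000007c084c00095000158000000001480000000013800000000000000000000000003e10146c000000000d80003200000000000000000205170000980004a0000000001e0000000000018083c00016000000000120000000000e000000000000000000000200087c00000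
def coldE2 : ℕ := coldE2_c0
def tfT2_c0 : ℕ := 0xa9648375012
def tfT2 : ℕ := tfT2_c0

end

end Cfsg.Agent.Lib.Helper56.M11R
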